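import Groth.Agent.DegMult16.Local
import Groth.Agent.QCoh.Stalk
import Groth.Agent.VarDim.Catenary
import Groth.Agent.LefPenLib.Bertini

/-!
# A curve in a power of the ideal of a point of a surface
-/

set_option linter.style.haveILetI false
set_option linter.unusedSectionVars false
set_option backward.isDefEq.respectTransparency false
set_option backward.isDefEq.respectTransparency.types false
set_option maxHeartbeats 600000

universe u

open CategoryTheory AlgebraicGeometry TopologicalSpace IsLocalRing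

namespace Groth.Agent.DegMult16

open Groth.Agent

variable {C S : Scheme.{u}} (j : C ⟶ S) [IsClosedImmersion j]

/-- A bound on the kernel of a closed immersion passes to stalks. -/
theorem ker_stalkMap_le_pow {P : S} (hP : IsClosed ({P} : Set S)) {m : ℕ}
    (hm : j.ker ≤ Scheme.IdealSheafData.vanishingIdeal ⟨{P}, hP⟩ ^ m) (x : C) (hx : j x = P) :
    RingHom.ker (j.stalkMap x).hom ≤ maximalIdeal (S.presheaf.stalk (j x)) ^ m := by
  obtain ⟨_, ⟨U, hU, rfl⟩, hxU, -⟩ :=
    S.isBasis_affineOpens.exists_subset_of_mem_open (Set.mem_univ (j x)) isOpen_univ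
  have hV : IsAffineOpen (j ⁻¹ᵁ U) := hU.preimage j
  let g : Γ(S, U) →+* S.presheaf.stalk (j x) := (S.presheaf.germ U (j x) hxU).hom
  have hmax : ((Scheme.IdealSheafData.vanishingIdeal ⟨{P}, hP⟩).ideal ⟨U, hU⟩).map g ≤
      maximalIdeal (S.presheaf.stalk (j x)) := by
    refine Ideal.map_le_iff_le_comap.2 fun b hb => (IsLocalRing.mem_maximalIdeal _).2 fun hu => ?_
    have hsupp : j x ∈ ((Scheme.IdealSheafData.vanishingIdeal ⟨{P}, hP⟩).support : Set S) ∩ U := by
      exact ⟨Scheme.IdealSheafData.le_support_iff_le_vanishingIdeal.2 le_rfl hx, hxU⟩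
    rw [Scheme.IdealSheafData.coe_support_inter _ ⟨U, hU⟩] at hsupp
    exact ((S.mem_zeroLocus_iff _ _).1 hsupp.1) b hb ((S.mem_basicOpen b (j x) hxU).2 hu)
  have hker : (j.ker.ideal ⟨U, hU⟩).map g ≤ maximalIdeal (S.presheaf.stalk (j x)) ^ m := by
    refine (Ideal.map_mono (hm ⟨U, hU⟩)).trans ?_
    rw [Scheme.IdealSheafData.ideal_pow, Pi.pow_apply, Ideal.map_pow]
    exact Ideal.pow_right_mono hmax m
  refine le_trans ?_ hker
  letI := QCoh.stalkAlg (X := S) hxU
  haveI := QCoh.isLocalization_stalk' hU hxU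
  letI := QCoh.stalkAlg (X := C) (show x ∈ j ⁻¹ᵁ U from hxU)
  haveI := QCoh.isLocalization_stalk' hV (show x ∈ j ⁻¹ᵁ U from hxU)
  intro a ha
  rw [Scheme.Hom.ker_apply]
  obtain ⟨⟨b, s⟩, rfl⟩ := IsLocalization.mk'_surjective (hU.primeIdealOf ⟨j x, hxU⟩).asIdeal.primeCompl a
  have h0 : algebraMap Γ(C, j ⁻¹ᵁ U) (C.presheaf.stalk x) ((j.app U).hom b) = 0 := by
    show C.presheaf.germ (j ⁻¹ᵁ U) x hxU ((j.app U).hom b) = 0
    rw [← Scheme.Hom.germ_stalkMap_apply j U x hxU b]
    show (j.stalkMap x).hom (algebraMap Γ(S, U) (S.presheaf.stalk (j x)) b) = 0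
    rw [← IsLocalization.mk'_spec (S.presheaf.stalk (j x)) b s, map_mul,
      show (j.stalkMap x).hom (IsLocalization.mk' _ b s) = 0 from ha, zero_mul]
  obtain ⟨t, ht⟩ := (IsLocalization.map_eq_zero_iff (hV.primeIdealOf ⟨x, hxU⟩).asIdeal.primeCompl _ _).1 h0
  obtain ⟨t', ht'⟩ := j.app_surjective U hU t.1
  have ht'u : IsUnit (algebraMap Γ(S, U) (S.presheaf.stalk (j x)) t') := by
    refine (isUnit_map_iff (j.stalkMap x).hom _).1 ?_
    show IsUnit ((j.stalkMap x).hom (S.presheaf.germ U (j x) hxU t'))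
    rw [show (j.stalkMap x).hom (S.presheaf.germ U (j x) hxU t') = C.presheaf.germ (j ⁻¹ᵁ U) x hxU ((j.app U).hom t')
      from Scheme.Hom.germ_stalkMap_apply j U x hxU t', ht']
    exact IsLocalization.map_units (C.presheaf.stalk x) t
  have hmem : t' * b ∈ RingHom.ker (j.app U).hom := by rw [RingHom.mem_ker, map_mul, ht', ht]
  have := Ideal.mem_map_of_mem (algebraMap Γ(S, U) (S.presheaf.stalk (j x))) hmem
  rw [map_mul, Ideal.unit_mul_mem_iff_mem _ ht'u] at this
  exact (IsLocalization.mk'_mem_iff).2 this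

/-- The point lies on a curve inside a positive power of its ideal. -/
theorem exists_preimage {P : S} (hP : IsClosed ({P} : Set S)) {m : ℕ} (h0 : m ≠ 0)
    (hm : j.ker ≤ Scheme.IdealSheafData.vanishingIdeal ⟨{P}, hP⟩ ^ m) : ∃ x : C, j x = P := by
  have h := Scheme.IdealSheafData.support_antitone hm
  rw [Scheme.IdealSheafData.support_pow _ _ h0] at h
  have hP' : P ∈ (j.ker.support : Set S) :=
    h (Scheme.IdealSheafData.le_support_iff_le_vanishingIdeal.2 le_rfl (Set.mem_singleton P))
  rw [j.support_ker] at hP'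
  change P ∈ closure (Set.range j) at hP'
  rw [j.isClosedEmbedding.isClosed_range.closure_eq] at hP'
  exact hP'

/-- Closed points of a smooth integral surface have two-dimensional local rings. -/
theorem two_le_dim (k : Type u) [Field k] (f : S ⟶ Spec (CommRingCat.of k)) [IsIntegral S]
    [SmoothOfRelativeDimension 2 f] (x : S) (hx : IsClosed ({x} : Set S)) :
    2 ≤ ringKrullDim (S.presheaf.stalk x) := by
  haveI : Smooth f := SmoothOfRelativeDimension.smooth 2 f
  obtain ⟨b, hb, -, hle⟩ := VarDim.exists_deg_add_stalk f x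
  have h1 := LefPenLib.topologicalKrullDim_eq_of_smoothRelDim f (n := 2)
  rw [VarDim.topologicalKrullDim_eq_deg_genericPoint f] at h1
  have h2 : VarDim.deg f (genericPoint S) = 2 :=
    Nat.cast_inj.1 (WithBot.coe_inj.1 (h1.trans rfl))
  have h0 := (VarDim.closedPoint_iff_deg_eq_zero f x).1 hx
  have h3 := hle (genericPoint S) (genericPoint_specializes x)
  rw [hb]
  exact_mod_cast (show 2 ≤ b by omega)

end Groth.Agent.DegMult16
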