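import Groth.Agent.DegMult16.Local
import Groth.Agent.Lib.CurveSection
import Groth.Agent.Lib.CurveDeg
import Groth.Agent.Lib.InvEnd
import Groth.Agent.InvX.Tensor
import Groth.Agent.QCoh.Support

/-!
# The degree of an invertible module bounds the length of a zero of a section
-/

set_option linter.style.haveILetI false
set_option linter.unusedSectionVars false
set_option backward.isDefEq.respectTransparency false
set_option backward.isDefEq.respectTransparency.types false
set_option maxHeartbeats 600000

universe u

open CategoryTheory CategoryTheory.Limits AlgebraicGeometry TopologicalSpace Opposite IsLocalRing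

noncomputable section

namespace Groth.Agent.DegMult16

open Groth.Agent

variable {X : Scheme.{u}}

/-- The image on a stalk of the map given by a global section. -/
theorem homOfTop_stalk {P : X.Modules} (t : Γ(P, ⊤)) (x : X)
    (y : (DerSch.stalkFunctor X x).obj (Coh.structureModule X)) :
    ∃ a : X.presheaf.stalk x,
      (DerSch.stalkFunctor X x).map (QCoh.homOfTop t) y = a • P.presheaf.germ ⊤ x trivial t := by
  obtain ⟨W, hxW, s, rfl⟩ := TopCat.Presheaf.exists_germ_eq (Coh.structureModule X).presheaf y
  refine ⟨X.presheaf.germ W x hxW s, ?_⟩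
  refine (TopCat.Presheaf.stalkFunctor_map_germ_apply W x hxW
    ((Scheme.Modules.toPresheaf X).map (QCoh.homOfTop t)) s).trans ?_
  refine (congrArg (P.presheaf.germ W x hxW) (QCoh.homOfTop_app t s)).trans ?_
  refine (QCoh.germ_smul' P hxW s _).trans ?_
  exact congrArg (X.presheaf.germ W x hxW s • ·) (P.presheaf.germ_res_apply (homOfLE le_top) x hxW t)

variable {L : X.Modules} (s : Γ(L, ⊤)) (x : X) {U : X.Opens} {ε : Γ(L, U)} (hε : InvX.IsFrame ε) (hxU : x ∈ U)
  {a : X.presheaf.stalk x} (ha : L.presheaf.germ ⊤ x trivial s = a • L.presheaf.germ U x hxU ε)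

/-- The cokernel of a section of an invertible module at a point is generated by the image of a frame. -/
abbrev gen : (DerSch.stalkFunctor X x).obj (cokernel (QCoh.homOfTop s)) :=
  (DerSch.stalkFunctor X x).map (cokernel.π (QCoh.homOfTop s))
    (show (DerSch.stalkFunctor X x).obj L from L.presheaf.germ U x hxU ε)

include hε in
theorem gen_generates (q : (DerSch.stalkFunctor X x).obj (cokernel (QCoh.homOfTop s))) :
    ∃ r : X.presheaf.stalk x, r • gen s x hxU (ε := ε) = q := by
  obtain ⟨y, rfl⟩ := (ModuleCat.epi_iff_surjective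
    ((DerSch.stalkFunctor X x).map (cokernel.π (QCoh.homOfTop s)))).1 inferInstance q
  obtain ⟨r, hr⟩ := (hε.germ_bijective hxU).2 y
  refine ⟨r, ?_⟩
  rw [gen, ← map_smul]
  exact congrArg _ hr

include hε ha in
/-- What kills the generator is divisible by the local equation. -/
theorem dvd_of_smul_gen {r : X.presheaf.stalk x} (h : r • gen s x hxU (ε := ε) = 0) : a ∣ r := by
  let S := ShortComplex.mk (QCoh.homOfTop s) (cokernel.π (QCoh.homOfTop s)) (cokernel.condition _)
  have hS : S.Exact := ShortComplex.exact_of_g_is_cokernel _ (cokernelIsCokernel _)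
  have hS' := (ShortComplex.moduleCat_exact_iff _).1 (hS.map (DerSch.stalkFunctor X x))
  rw [gen, ← map_smul] at h
  obtain ⟨y, hy⟩ := hS' _ h
  obtain ⟨b, hb⟩ := homOfTop_stalk s x y
  refine ⟨b, (hε.germ_bijective hxU).1 ?_⟩
  show r • L.presheaf.germ U x hxU ε = (a * b) • L.presheaf.germ U x hxU ε
  refine Eq.trans (hy.symm.trans hb) ?_
  rw [ha, mul_comm a b, mul_smul]

variable {k : Type u} [Field k] [X.Over (Spec (CommRingCat.of k))] [IsProper (X ↘ Spec (CommRingCat.of k))]
  [IsIntegral X]

include k hε ha in
/-- The degree is at least the dimension of the stalk of the cokernel, and so at least `m` as soon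
as the local equation does not divide some element of the `m - 1`-st power of the maximal ideal. -/
theorem le_deg (hdim : topologicalKrullDim X = 1) (hL : PicF.IsInvertible L) (hs : s ≠ 0)
    (m : ℕ) (hm : m = 0 ∨ ∃ r ∈ maximalIdeal (X.presheaf.stalk x) ^ (m - 1), ¬ a ∣ r) :
    (m : ℤ) ≤ Curv2.deg k X L 1 := by
  classical
  haveI := CurveCohLib.isNoetherian_of_proper (k := k) (X := X)
  have hne : QCoh.homOfTop s ≠ 0 := fun h => hs (by
    have h1 : (QCoh.homOfTop s).app ⊤ (1 : Γ(X, ⊤)) = 0 := by rw [h]; rfl
    rw [QCoh.homOfTop_app, one_smul] at h1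
    rw [← h1]
    exact (ConcreteCategory.congr_hom (L.presheaf.map_id (op ⊤)) s).symm)
  haveI := InvEnd.mono_of_ne_zero CurveDeg.isInvertible_structureModule hL _ hne
  have hLc := CurveDeg.isCoh_of_isInvertible hL
  have hO : Coh.IsCoh (Coh.structureModule X) := QCoh.isCoh_structureModule'
  let f := QCoh.homOfTop s
  have hQ : Coh.IsCoh (cokernel f) := QCoh.isCoh_cokernel hO.1 hLc f
  have hη : genericPoint X ∉ CohB1.support (cokernel f) := by
    intro hη
    apply hη
    obtain ⟨V, hηV, ε', hε'⟩ := InvX.exists_frame hL (genericPoint X)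
    obtain ⟨a', ha'⟩ := (hε'.germ_bijective hηV).2 (L.presheaf.germ ⊤ (genericPoint X) trivial s)
    change Subsingleton ((DerSch.stalkFunctor X (genericPoint X)).obj (cokernel f))
    have hs0 : a' ≠ 0 := fun h0 => hs (by
      refine TopCat.Presheaf.section_ext (⟨L.presheaf, L.isSheaf⟩ : TopCat.Sheaf Ab X.toTopCat) ⊤ _ _ fun z hz => ?_
      obtain ⟨W, hzW, εW, hεW⟩ := InvX.exists_frame hL z
      obtain ⟨g, hg⟩ := hεW.exists_coord le_rfl (AModX.res L (le_top : W ≤ ⊤) s)
      rw [AModX.res_self] at hg
      have hηW : genericPoint X ∈ W := ((genericPoint_spec X).specializes trivial).mem_open W.2 hzW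
      haveI : Nonempty W := ⟨⟨z, hzW⟩⟩
      have hg0 : g = 0 := germ_injective_of_isIntegral X (genericPoint X) hηW (by
        rw [map_zero]
        refine (hεW.germ_bijective hηW).1 ?_
        show X.presheaf.germ W _ hηW g • L.presheaf.germ W _ hηW εW = (0 : X.presheaf.stalk _) • L.presheaf.germ W _ hηW εW
        rw [zero_smul, ← QCoh.germ_smul' L hηW g εW, ← hg]
        refine (L.presheaf.germ_res_apply (homOfLE (le_top : W ≤ ⊤)) _ hηW s).trans ?_
        rw [← ha']
        show a' • L.presheaf.germ V (genericPoint X) hηV ε' = 0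
        rw [h0, zero_smul])
      rw [map_zero]
      refine (L.presheaf.germ_res_apply (homOfLE (le_top : W ≤ ⊤)) z hzW s).symm.trans ?_
      show L.presheaf.germ W z hzW (AModX.res L (le_top : W ≤ ⊤) s) = 0
      rw [hg, hg0, zero_smul, map_zero])
    refine subsingleton_of_forall_eq 0 fun q => ?_
    obtain ⟨r, rfl⟩ := gen_generates s (genericPoint X) hε' hηV q
    have hu : IsUnit a' := isUnit_iff_ne_zero.2 hs0
    obtain ⟨b, hb⟩ := hu.exists_right_inv
    have hgen : gen s (genericPoint X) hηV (ε := ε') = 0 := by
      have h1 : (DerSch.stalkFunctor X (genericPoint X)).map (cokernel.π f)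
          (show (DerSch.stalkFunctor X (genericPoint X)).obj L from L.presheaf.germ ⊤ (genericPoint X) trivial s) = 0 := by
        have h2 : (f ≫ cokernel.π f) = 0 := cokernel.condition f
        refine Eq.trans ?_ (ConcreteCategory.congr_hom
          (((DerSch.stalkFunctor X (genericPoint X)).congr_map h2).trans ((DerSch.stalkFunctor X _).map_zero _ _))
          ((Coh.structureModule X).presheaf.germ ⊤ (genericPoint X) trivial (show Γ(Coh.structureModule X, ⊤) from (1 : Γ(X, ⊤)))))
        rw [Functor.map_comp, CategoryTheory.comp_apply]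
        refine congrArg _ (Eq.symm ?_)
        refine (TopCat.Presheaf.stalkFunctor_map_germ_apply (⊤ : X.Opens) (genericPoint X) trivial
          ((Scheme.Modules.toPresheaf X).map f) _).trans (congrArg _ ?_)
        refine (QCoh.homOfTop_app s (1 : Γ(X, ⊤))).trans ?_
        rw [one_smul]
        exact ConcreteCategory.congr_hom (L.presheaf.map_id (op ⊤)) s
      rw [← ha'] at h1
      have h3 : a' • gen s (genericPoint X) hηV (ε := ε') = 0 := by
        rw [gen, ← map_smul]
        exact h1
      calc gen s (genericPoint X) hηV (ε := ε') = (b * a') • gen s (genericPoint X) hηV (ε := ε') := by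
            rw [mul_comm, hb, one_smul]
        _ = 0 := by rw [mul_smul, h3, smul_zero]
    rw [hgen, smul_zero]
  have hcl : ∀ y ∈ CohB1.support (cokernel f), IsClosed ({y} : Set X) := fun y hy => by
    by_contra h
    exact hη (CurveCohLib.eq_genericPoint_of_not_isClosed hdim h ▸ hy)
  have hfin := CurveCohLib.finite_of_closedPoints (QCoh.isClosed_support_of_isFT hQ.1 hQ.2) hcl
  obtain ⟨he, hk⟩ := CurveCohLib.euler_eq_sum_stalks (k := k) hQ hcl (insert x hfin.toFinset) (by simp)
  have hadd := CurveBundle.euler_add' k f (cokernel.π f) (cokernel.condition f)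
    (CurveSlope.shortExact_cokernel_of_mono f) hO hLc hQ
  letI := fun y : X => CurveCohLib.stalkModuleK k (cokernel f) y
  have hle : (m : ℤ) ≤ Curv2.euler k X (cokernel f) := by
    rw [he]
    refine le_trans ?_ (Finset.single_le_sum (fun y _ => Int.natCast_nonneg _) (Finset.mem_insert_self x _))
    rcases hm with rfl | ⟨r, hr, har⟩
    · exact Int.natCast_nonneg _
    letI : Algebra k (X.presheaf.stalk x) := (Curv2.stalkMap k X x).toAlgebra
    haveI : IsScalarTower k (X.presheaf.stalk x) ((cokernel f).presheaf.stalk x) :=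
      IsScalarTower.of_algebraMap_smul fun c q => rfl
    haveI := hk x (Finset.mem_insert_self x _)
    refine Int.ofNat_le.2 (le_finrank (A := X.presheaf.stalk x) m fun hbot => har (dvd_of_smul_gen s x hε hxU ha ?_))
    have h := Submodule.smul_mem_smul hr
      (Submodule.mem_top : (show (cokernel f).presheaf.stalk x from gen s x hxU (ε := ε)) ∈
        (⊤ : Submodule (X.presheaf.stalk x) ((cokernel f).presheaf.stalk x)))
    rw [hbot] at h
    exact h
  unfold Curv2.deg
  push_cast
  linarith

end Groth.Agent.DegMult16
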