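import Mathlib.RingTheory.Nakayama
import Mathlib.RingTheory.Finiteness.Cardinality
import Mathlib.LinearAlgebra.FiniteDimensional.Lemmas
import Mathlib.RingTheory.Ideal.KrullsHeightTheorem
import Mathlib.RingTheory.KrullDimension.Regular
import Mathlib.RingTheory.KrullDimension.Zero
import Mathlib.RingTheory.Ideal.Quotient.Operations

/-!
# Strict chains of powers of the maximal ideal
-/

universe u v w

open IsLocalRing

namespace Groth.Agent.DegMult16

/-- A module over a local algebra not killed by the `m - 1`-st power of the maximal ideal has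
dimension at least `m`. -/
theorem le_finrank {k : Type u} {A : Type v} {M : Type w} [Field k] [CommRing A] [IsLocalRing A] [Algebra k A]
    [AddCommGroup M] [Module A M] [Module k M] [IsScalarTower k A M] [Module.Finite k M] (m : ℕ)
    (h : (maximalIdeal A ^ (m - 1)) • (⊤ : Submodule A M) ≠ ⊥) :
    m ≤ Module.finrank k M := by
  have : Module.Finite A M := Module.Finite.of_restrictScalars_finite k A M
  have : IsNoetherian k M := isNoetherian_of_isNoetherianRing_of_finite k M
  have : IsNoetherian A M := isNoetherian_of_tower k inferInstance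
  let V : ℕ → Submodule A M := fun i => (maximalIdeal A ^ i) • ⊤
  have hfg : ∀ i, (V i).FG := fun i => IsNoetherian.noetherian _
  have hsucc : ∀ i, V (i + 1) = maximalIdeal A • V i := fun i => by
    show (maximalIdeal A ^ (i + 1)) • (⊤ : Submodule A M) = _
    rw [pow_succ', Submodule.mul_smul]
  have hne : ∀ i, i ≤ m - 1 → V i ≠ ⊥ := fun i hi h0 => h (by
    refine eq_bot_iff.2 ?_
    rw [← h0]
    exact Submodule.smul_mono_left (Ideal.pow_le_pow_right hi))
  have hlt : ∀ i, i ≤ m - 1 → Module.finrank k ((V (i + 1)).restrictScalars k) <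
      Module.finrank k ((V i).restrictScalars k) := fun i hi => by
    refine Submodule.finrank_lt_finrank_of_lt ((Submodule.restrictScalarsEmbedding k A M).strictMono
      (lt_of_le_of_ne (Submodule.smul_mono_left (Ideal.pow_le_pow_right i.le_succ)) fun he => ?_))
    refine hne i hi (Submodule.eq_bot_of_le_smul_of_le_jacobson_bot (maximalIdeal A) (V i) (hfg i) ?_ ?_)
    · rw [← hsucc]
      exact he.ge
    · rw [IsLocalRing.jacobson_eq_maximalIdeal ⊥ bot_ne_top]
  have key : ∀ i, i ≤ m → m - i ≤ Module.finrank k ((V i).restrictScalars k) := by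
    intro i
    induction hd : m - i generalizing i with
    | zero => omega
    | succ d ih =>
      intro hi
      have h1 := ih (i + 1) (by omega) (by omega)
      have h2 := hlt i (by omega)
      omega
  exact (key 0 (Nat.zero_le m)).trans (Submodule.finrank_le _)

/-- In a local ring of dimension at least two a power of the maximal ideal is not inside the next
power and a principal ideal. -/
theorem exists_mem_pow_notMem {A : Type u} [CommRing A] [IsLocalRing A] [IsNoetherianRing A]
    (hdim : 2 ≤ ringKrullDim A) {x : A} (hx : x ∈ maximalIdeal A) (n : ℕ) :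
    ∃ r ∈ maximalIdeal A ^ n, r ∉ Ideal.span {x} ⊔ maximalIdeal A ^ (n + 1) := by
  by_contra hcon
  push Not at hcon
  let B := A ⧸ Ideal.span {x}
  have hxne : Ideal.span {x} ≠ ⊤ := fun h => by
    have := (Ideal.span_singleton_le_iff_mem _).2 hx
    exact (IsLocalRing.maximalIdeal.isMaximal A).ne_top (top_le_iff.1 (h ▸ this))
  have hle : (maximalIdeal A) ^ n ≤ Ideal.span {x} ⊔ maximalIdeal A • (maximalIdeal A ^ n) := fun r hr => by
    rw [smul_eq_mul, ← pow_succ']
    exact hcon r hr
  have hn : maximalIdeal A ^ n ≤ Ideal.span {x} :=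
    Submodule.le_of_le_smul_of_le_jacobson_bot (IsNoetherian.noetherian _)
      (IsLocalRing.jacobson_eq_maximalIdeal ⊥ bot_ne_top).ge hle
  have : Nontrivial B := Ideal.Quotient.nontrivial_iff.2 hxne
  have hB : ringKrullDim B ≤ 0 := by
    have : Ring.KrullDimLE 0 B := ⟨?_⟩
    · exact Order.KrullDimLE.krullDim_le
    refine (Order.krullDim_nonpos_iff_forall_isMax).2 fun p => ?_
    have hp : ∀ q : PrimeSpectrum B, q.asIdeal.comap (Ideal.Quotient.mk _) = maximalIdeal A := fun q => by
      have : (q.asIdeal.comap (Ideal.Quotient.mk (Ideal.span {x}))).IsPrime := inferInstance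
      refine le_antisymm (IsLocalRing.le_maximalIdeal Ideal.IsPrime.ne_top') ?_
      refine Ideal.IsPrime.le_of_pow_le (n := n) fun r hr => ?_
      rw [Ideal.mem_comap, Ideal.Quotient.eq_zero_iff_mem.2 (hn hr)]
      exact zero_mem _
    intro q hq
    show q.asIdeal ≤ p.asIdeal
    have e : q.asIdeal = p.asIdeal :=
      Ideal.comap_injective_of_surjective _ Ideal.Quotient.mk_surjective ((hp q).trans (hp p).symm)
    exact e.le
  have h1 := ringKrullDim_le_ringKrullDim_quotient_add_card {x} (show (({x} : Finset A) : Set A) ⊆ (Ring.jacobson A : Set A) by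
    rw [IsLocalRing.ringJacobson_eq_maximalIdeal]
    simpa using hx)
  rw [Finset.card_singleton, Nat.cast_one, Finset.coe_singleton] at h1
  have h2 : (2 : WithBot ℕ∞) ≤ 0 + 1 := hdim.trans (h1.trans (add_le_add hB le_rfl))
  rw [zero_add] at h2
  norm_cast at h2

end Groth.Agent.DegMult16
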