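import Groth.Agent.DegMult16.Curve
import Groth.Agent.AmpleX.Proj
import Groth.Agent.InvX.GenLocusPull
import Groth.Prelude.Def_Twist2
import Groth.Agent.PnCoh.Finite.TwistInv

/-!
# Linear forms vanishing at a point of a curve in projective space
-/

set_option linter.style.haveILetI false
set_option linter.unusedSectionVars false
set_option backward.isDefEq.respectTransparency false
set_option backward.isDefEq.respectTransparency.types false
set_option maxHeartbeats 600000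

universe u

open CategoryTheory CategoryTheory.Limits AlgebraicGeometry TopologicalSpace Opposite IsLocalRing

noncomputable section

namespace Groth.Agent.DegMult16

open Groth.Agent

variable {X : Scheme.{u}}

/-- If a multiple of a section is a frame, so is the section. -/
theorem isFrame_of_smul {L : X.Modules} {U : X.Opens} {c : Γ(X, U)} {e : Γ(L, U)}
    (h : InvX.IsFrame (c • e)) : InvX.IsFrame e := fun V hV => by
  have key : ∀ r : Γ(X, V), r • AModX.res L hV (c • e) = (r * AModX.resR hV c) • AModX.res L hV e := fun r => by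
    rw [AModX.res_smul, mul_smul]
  refine ⟨fun r r' hr => (h V hV).1 ?_, fun y => ?_⟩
  · show r • AModX.res L hV (c • e) = r' • AModX.res L hV (c • e)
    rw [key, key, mul_comm r, mul_comm r', mul_smul, mul_smul]
    exact congrArg (AModX.resR hV c • ·) hr
  · obtain ⟨r, hr⟩ := (h V hV).2 y
    exact ⟨r * AModX.resR hV c, (key r).symm.trans hr⟩

variable (k : Type u) [Field k] [IsAlgClosed k] {A : Type u} [CommRing A] {R : Type u} [CommRing R] [Algebra R A]
  {𝒜 : ℕ → Submodule R A} [GradedAlgebra 𝒜]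
  [X.Over (Spec (CommRingCat.of k))] [IsProper (X ↘ Spec (CommRingCat.of k))] [IsIntegral X]

variable (u : X ⟶ Proj 𝒜)

/-- The inverse image of a degree one element. -/
def pullSec {a : A} (ha : a ∈ 𝒜 1) : Γ((Scheme.Modules.pullback u).obj (Twist.twist 𝒜 1), ⊤) :=
  InvX.pullElt u (U := ⊤) (ProjUPX.sec 𝒜 ha)

theorem isFrame_pullSec {a : A} (ha : a ∈ 𝒜 1) :
    InvX.IsFrame (AModX.res _ (le_top : u ⁻¹ᵁ Proj.basicOpen 𝒜 a ≤ ⊤) (pullSec u ha)) := by
  have h := InvX.res_pullElt u (le_top : Proj.basicOpen 𝒜 a ≤ ⊤) (ProjUPX.sec 𝒜 ha)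
  change InvX.IsFrame (AModX.res _ _ (InvX.pullElt u (U := ⊤) (ProjUPX.sec 𝒜 ha)))
  rw [h]
  exact InvX.isFrame_pullElt u (ProjUPX.isFrame_sec 𝒜 ha)

/-- A section coming from a degree one element which generates on another chart is invertible there. -/
theorem le_preimage_of_isFrame {a t : A} (ha : a ∈ 𝒜 1) (ht : t ∈ 𝒜 1)
    (h : InvX.IsFrame (AModX.res _ (le_top : u ⁻¹ᵁ Proj.basicOpen 𝒜 t ≤ ⊤) (pullSec u ha))) :
    u ⁻¹ᵁ Proj.basicOpen 𝒜 t ≤ u ⁻¹ᵁ Proj.basicOpen 𝒜 a := by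
  let D := Proj.basicOpen 𝒜 t
  let g : Γ(Proj 𝒜, D) := (Proj.awayToSection 𝒜 t).hom
    (HomogeneousLocalization.Away.mk 𝒜 ht 1 a (by rwa [one_smul]))
  have h1 : AModX.res _ (le_top : u ⁻¹ᵁ D ≤ ⊤) (pullSec u ha) =
      u.app D g • AModX.res _ (le_top : u ⁻¹ᵁ D ≤ ⊤) (pullSec u ht) := by
    change AModX.res _ _ (InvX.pullElt u (U := ⊤) (ProjUPX.sec 𝒜 ha)) =
      u.app D g • AModX.res _ _ (InvX.pullElt u (U := ⊤) (ProjUPX.sec 𝒜 ht))
    have e1 := InvX.res_pullElt u (le_top : D ≤ ⊤) (ProjUPX.sec 𝒜 ha)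
    have e2 := InvX.res_pullElt u (le_top : D ≤ ⊤) (ProjUPX.sec 𝒜 ht)
    rw [e1, e2, ← InvX.pullElt_smul]
    exact congrArg (InvX.pullElt u) (ProjUPX.sec_eq_smul 𝒜 ha ht)
  obtain ⟨d, hd⟩ := h.exists_coord le_rfl (AModX.res _ (le_top : u ⁻¹ᵁ D ≤ ⊤) (pullSec u ht))
  rw [AModX.res_self] at hd
  have hu : IsUnit (u.app D g) := by
    refine IsUnit.of_mul_eq_one d ((isFrame_pullSec u ht).coord_unique le_rfl ?_)
    rw [AModX.res_self, one_smul, mul_comm, mul_smul, ← h1, ← hd]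
  refine ProjUPX.le_preimage_of_isUnit u ha ht le_rfl ?_
  convert hu using 1
  unfold ProjUPX.ratioOf
  rw [Scheme.Hom.app_eq_appLE]

/-- Scalars act on germs through the stalk map. -/
theorem germ_smul_const {L : X.Modules} (c : k) (s : Γ(L, ⊤)) (x : X) :
    L.presheaf.germ ⊤ x trivial
        ((show Γ(X, ⊤) from Coh.toGlobal (X ↘ Spec (CommRingCat.of k)) c) • s) =
      Curv2.stalkMap k X x c • L.presheaf.germ ⊤ x trivial s :=
  QCoh.germ_smul' L (U := ⊤) (x := x) trivial _ s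

include k in
/-- A curve mapped affinely to `Proj` with coordinates covering has, at each closed point, a nonzero
section of the pulled back `O(1)` vanishing there. -/
theorem exists_section_vanishing_at [IsAffineHom u] (hdim : topologicalKrullDim X = 1)
    {κ : Type*} (T : κ → A) (hT : ∀ j, T j ∈ 𝒜 1) (hcov : ⨆ j, Proj.basicOpen 𝒜 (T j) = ⊤)
    {x : X} (hx : IsClosed ({x} : Set X)) :
    ∃ (s : Γ((Scheme.Modules.pullback u).obj (Twist.twist 𝒜 1), ⊤)) (U : X.Opens) (hxU : x ∈ U)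
      (ε : Γ((Scheme.Modules.pullback u).obj (Twist.twist 𝒜 1), U)) (a : X.presheaf.stalk x),
      s ≠ 0 ∧ InvX.IsFrame ε ∧ a ∈ maximalIdeal (X.presheaf.stalk x) ∧
        ((Scheme.Modules.pullback u).obj (Twist.twist 𝒜 1)).presheaf.germ ⊤ x trivial s =
          a • ((Scheme.Modules.pullback u).obj (Twist.twist 𝒜 1)).presheaf.germ U x hxU ε := by
  let L := (Scheme.Modules.pullback u).obj (Twist.twist 𝒜 1)
  have hc : ∀ y : X, ∃ j, y ∈ u ⁻¹ᵁ Proj.basicOpen 𝒜 (T j) := fun y => by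
    obtain ⟨j, hj⟩ := Opens.mem_iSup.1 (hcov.ge (trivial : u y ∈ (⊤ : (Proj 𝒜).Opens)))
    exact ⟨j, hj⟩
  obtain ⟨i, hxi⟩ := hc x
  have hF := isFrame_pullSec u (hT i)
  have hgerm : ∀ j, ∃ c : k, ∃ a ∈ maximalIdeal (X.presheaf.stalk x),
      L.presheaf.germ ⊤ x trivial (pullSec u (hT j) -
        (show Γ(X, ⊤) from Coh.toGlobal (X ↘ Spec (CommRingCat.of k)) c) • pullSec u (hT i)) =
      a • L.presheaf.germ _ x hxi (AModX.res L (le_top : u ⁻¹ᵁ Proj.basicOpen 𝒜 (T i) ≤ ⊤) (pullSec u (hT i))) := by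
    intro j
    obtain ⟨b, hb⟩ := (hF.germ_bijective hxi).2 (L.presheaf.germ ⊤ x trivial (pullSec u (hT j)))
    obtain ⟨c, hc'⟩ := CurveSection.exists_stalkMap_sub_mem k hx b
    refine ⟨c, b - Curv2.stalkMap k X x c, hc', ?_⟩
    rw [map_sub, germ_smul_const, sub_smul]
    refine congrArg₂ (· - ·) hb.symm (congrArg (Curv2.stalkMap k X x c • ·) ?_)
    exact (L.presheaf.germ_res_apply (homOfLE (le_top : u ⁻¹ᵁ Proj.basicOpen 𝒜 (T i) ≤ ⊤)) x hxi _).symm
  choose c a ha hca using hgerm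
  by_cases hex : ∃ j, pullSec u (hT j) -
      (show Γ(X, ⊤) from Coh.toGlobal (X ↘ Spec (CommRingCat.of k)) (c j)) • pullSec u (hT i) ≠ 0
  · obtain ⟨j, hj⟩ := hex
    exact ⟨_, _, hxi, _, a j, hj, hF, ha j, hca j⟩
  · exfalso
    push Not at hex
    have htop : u ⁻¹ᵁ Proj.basicOpen 𝒜 (T i) = ⊤ := top_le_iff.1 fun y _ => by
      obtain ⟨j, hyj⟩ := hc y
      refine le_preimage_of_isFrame u (hT i) (hT j) ?_ hyj
      have hj := isFrame_pullSec u (hT j)
      rw [sub_eq_zero.1 (hex j), AModX.res_smul] at hj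
      exact isFrame_of_smul hj
    have haff : IsAffineOpen (u ⁻¹ᵁ Proj.basicOpen 𝒜 (T i)) :=
      (Proj.isAffineOpen_basicOpen 𝒜 _ (hT i) one_pos).preimage u
    rw [htop] at haff
    haveI : IsAffine ((⊤ : X.Opens) : Scheme.{u}) := haff
    haveI : IsAffine X := IsAffine.of_isIso X.topIso.inv
    have hfld : IsField Γ(X, ⊤) := isField_of_universallyClosed k (X ↘ Spec (CommRingCat.of k))
    letI := hfld.toField
    haveI : Subsingleton ↥(Spec Γ(X, ⊤)) := by
      show Subsingleton (PrimeSpectrum Γ(X, ⊤))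
      infer_instance
    haveI : Subsingleton X := (Scheme.homeoOfIso X.isoSpec).toEquiv.subsingleton
    haveI : Subsingleton (IrreducibleCloseds X) := ⟨fun p q => IrreducibleCloseds.ext <| by
      obtain ⟨a, ha⟩ := p.isIrreducible.nonempty
      obtain ⟨b, hb⟩ := q.isIrreducible.nonempty
      ext y
      exact ⟨fun _ => Subsingleton.elim b y ▸ hb, fun _ => Subsingleton.elim a y ▸ ha⟩⟩
    have h0 : topologicalKrullDim X ≤ 0 := Order.krullDim_nonpos_of_subsingleton
    rw [hdim] at h0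
    exact absurd h0 (by norm_num)

end Groth.Agent.DegMult16
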